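import Cfsg.Agent.Lib.PushUpTwo.SLFacts
import Cfsg.Agent.Lib.AutPSL.Field
import Cfsg.Agent.Lib.ModBound.SLTwo
import Cfsg.Agent.Lib.Fusion.Sylow

/-!
# A finite group acting on the natural `SL₂(F)`-module as a group of additive automorphisms

The normalizer of the image of `SL₂(F)` acts semilinearly, the pointwise stabilizer of the line
`x₁ = 0` stabilizing the series is the root group when the Sylow subgroups of the normalizer are Sylow
subgroups of the group, and few elements of the root group fix another translate of this line.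
-/

set_option autoImplicit false
set_option linter.style.haveILetI false
set_option linter.unusedSectionVars false

namespace CfsgLib.NatEmb

open Subgroup Matrix
open CfsgLib.PushUpTwo (up lo upGroup up_mem up_val lo_val eq_up_of_mem card_upGroup slExt slDet)
open CfsgLib.Fusion (conjBy mem_conjBy conj_mem_conjBy conjBy_le_iff card_conjBy)

universe u v

/-- A finite group `Γ` of additive automorphisms of `F²` containing the natural action `σ` of `SL₂(F)`,
whose normalizer has index prime to `p`. -/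
structure Sys (p : ℕ) (F : Type u) [Field F] (Γ : Type v) [Group Γ]
    [DistribMulAction Γ (Fin 2 → F)] where
  /-- the natural action -/
  hom : Matrix.SpecialLinearGroup (Fin 2) F →* Γ
  spec : ∀ (g : Matrix.SpecialLinearGroup (Fin 2) F) (v : Fin 2 → F), hom g • v = g.1 *ᵥ v
  faith : ∀ γ : Γ, (∀ v : Fin 2 → F, γ • v = v) → γ = 1
  index : ¬ p ∣ (Subgroup.normalizer (hom.range : Set Γ)).index

section Field

variable {p : ℕ} {F : Type u} [Field F] [Finite F] [Fact p.Prime]

theorem card_le_of_pgroup_sl {P : Subgroup (Matrix.SpecialLinearGroup (Fin 2) F)} (hP : IsPGroup p P) (hq : p ∣ Nat.card F) :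
    Nat.card P ≤ Nat.card F := by
  haveI := Fintype.ofFinite F
  obtain ⟨j, hj⟩ := IsPGroup.iff_card.1 hP
  have hd : p ^ j ∣ (Fintype.card F ^ 2 - 1) * Fintype.card F := by
    rw [← CfsgLib.ModBound.card_SL _ rfl, ← hj]
    exact Subgroup.card_subgroup_dvd_card P
  rw [Nat.card_eq_fintype_card] at hq
  have hcop : (p ^ j).Coprime (Fintype.card F ^ 2 - 1) := by
    refine Nat.Coprime.pow_left j ((Fact.out : p.Prime).coprime_iff_not_dvd.2 fun h => ?_)
    have h2 : p ∣ Fintype.card F ^ 2 := hq.trans (dvd_pow_self _ two_ne_zero)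
    have h3 := Nat.dvd_sub h2 h
    rw [Nat.sub_sub_self (Nat.one_le_pow _ _ Fintype.card_pos)] at h3
    exact (Fact.out : p.Prime).one_lt.ne' (Nat.dvd_one.1 h3)
  rw [hj, Nat.card_eq_fintype_card]
  exact Nat.le_of_dvd Fintype.card_pos (hcop.dvd_of_dvd_mul_left hd)

variable [CharP F p]

theorem dvd_card_field : p ∣ Nat.card F := by
  haveI := Fintype.ofFinite F
  obtain ⟨f, -, hf⟩ := FiniteField.card F p
  rw [Nat.card_eq_fintype_card, hf]
  exact dvd_pow_self p f.ne_zero

variable (p) in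
include p in
theorem isCyclic_ringAut : IsCyclic (RingAut F) := by
  haveI := Fintype.ofFinite F
  obtain ⟨f, -, hf⟩ := FiniteField.card F p
  obtain ⟨e⟩ := CfsgLib.AutPSL.exists_ringAut_equiv (F := F) hf
  exact isCyclic_of_surjective e.symm e.symm.surjective

end Field

namespace Sys

variable {p : ℕ} {F : Type u} [Field F] {Γ : Type v} [Group Γ] [DistribMulAction Γ (Fin 2 → F)]
  (Y : Sys p F Γ)

include Y

local notation "SL2" => Matrix.SpecialLinearGroup (Fin 2) F

theorem eq_of_smul {γ δ : Γ} (h : ∀ v : Fin 2 → F, γ • v = δ • v) : γ = δ :=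
  inv_mul_eq_one.1 (Y.faith _ fun v => by rw [mul_smul, ← h v, inv_smul_smul]) |>.symm.symm

theorem hom_injective : Function.Injective Y.hom := by
  intro g h e
  have hv : ∀ v : Fin 2 → F, g.1 *ᵥ v = h.1 *ᵥ v := fun v => by rw [← Y.spec, ← Y.spec, e]
  exact Subtype.ext (Matrix.mulVec_injective (funext hv))

theorem up_smul (a : F) (v : Fin 2 → F) : Y.hom (up a) • v = ![v 0 + a * v 1, v 1] := by
  rw [Y.spec, up_val]
  ext i; fin_cases i <;> simp [Matrix.mulVec, dotProduct, Fin.sum_univ_two]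

theorem lo_smul (a : F) (v : Fin 2 → F) : Y.hom (lo a) • v = ![v 0, a * v 0 + v 1] := by
  rw [Y.spec, lo_val]
  ext i; fin_cases i <;> simp [Matrix.mulVec, dotProduct, Fin.sum_univ_two]

theorem hom_smul_smul (g : SL2) (c : F) (v : Fin 2 → F) :
    Y.hom g • (c • v) = c • (Y.hom g • v) := by
  rw [Y.spec, Y.spec, Matrix.mulVec_smul]

/-- The root group. -/
def root : Subgroup Γ := (upGroup F).map Y.hom

theorem mem_root {γ : Γ} : γ ∈ Y.root ↔ ∃ a, γ = Y.hom (up a) := by
  constructor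
  · rintro ⟨g, hg, rfl⟩
    exact ⟨g.1 0 1, by rw [← eq_up_of_mem hg]⟩
  · rintro ⟨a, rfl⟩
    exact ⟨up a, up_mem a, rfl⟩

theorem card_root : Nat.card Y.root = Nat.card F :=
  (Subgroup.card_map_of_injective Y.hom_injective).trans card_upGroup

theorem root_le_range : Y.root ≤ Y.hom.range := Subgroup.map_le_range _ _

theorem root_le_normalizer : Y.root ≤ Subgroup.normalizer (Y.hom.range : Set Γ) :=
  Y.root_le_range.trans le_normalizer

/-- An element of the root group fixing a vector off the line is trivial. -/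
theorem root_eq_one {γ : Γ} (hγ : γ ∈ Y.root) {v : Fin 2 → F} (hv : v 1 ≠ 0) (h : γ • v = v) :
    γ = 1 := by
  obtain ⟨a, rfl⟩ := Y.mem_root.1 hγ
  rw [Y.up_smul] at h
  have h0 := congrFun h 0
  simp [hv] at h0
  rw [h0]
  exact Y.eq_of_smul fun w => by rw [Y.up_smul, one_smul]; ext i; fin_cases i <;> simp

theorem root_fix {γ : Γ} (hγ : γ ∈ Y.root) {v : Fin 2 → F} (hv : v 1 = 0) : γ • v = v := by
  obtain ⟨a, rfl⟩ := Y.mem_root.1 hγ
  rw [Y.up_smul]
  ext i; fin_cases i <;> simp [hv]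

theorem root_top {γ : Γ} (hγ : γ ∈ Y.root) (v : Fin 2 → F) : (γ • v) 1 = v 1 := by
  obtain ⟨a, rfl⟩ := Y.mem_root.1 hγ
  rw [Y.up_smul]; simp

/-- The stabilizer of the series `0 ≤ {x₁ = 0} ≤ F²`. -/
def elem (_Z : Sys p F Γ) : Subgroup Γ where
  carrier := {γ | (∀ v : Fin 2 → F, v 1 = 0 → γ • v = v) ∧ ∀ v : Fin 2 → F, (γ • v) 1 = v 1}
  one_mem' := ⟨fun v _ => one_smul _ v, fun v => by rw [one_smul]⟩
  mul_mem' := fun {a b} ha hb => ⟨fun v hv => by rw [mul_smul, hb.1 v hv, ha.1 v hv],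
    fun v => by rw [mul_smul, ha.2, hb.2]⟩
  inv_mem' := fun {a} ha => ⟨fun v hv => inv_smul_eq_iff.2 (ha.1 v hv).symm, fun v => by
    conv_rhs => rw [← smul_inv_smul a v]
    rw [ha.2]⟩

theorem root_le_elem : Y.root ≤ Y.elem := fun _ h => ⟨fun _ hv => Y.root_fix h hv, Y.root_top h⟩

theorem elem_smul_sub {γ : Γ} (hγ : γ ∈ Y.elem) (v : Fin 2 → F) : (γ • v - v) 1 = 0 := by
  rw [Pi.sub_apply, hγ.2, sub_self]

/-- The elements preserving the line normalize the stabilizer of the series. -/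
theorem conj_elem {g : Γ} (hg : ∀ v : Fin 2 → F, (g • v) 1 = 0 ↔ v 1 = 0) {γ : Γ} (hγ : γ ∈ Y.elem) :
    g * γ * g⁻¹ ∈ Y.elem := by
  refine ⟨fun v hv => ?_, fun v => ?_⟩
  · rw [mul_smul, mul_smul, hγ.1 _ ((hg _).1 (by rw [smul_inv_smul]; exact hv)), smul_inv_smul]
  · have h := (hg _).2 (Y.elem_smul_sub hγ (g⁻¹ • v))
    rw [smul_sub, smul_inv_smul, ← mul_smul, ← mul_smul, Pi.sub_apply, sub_eq_zero] at h
    exact h

theorem mem_normalizer_elem [Finite Γ] {g : Γ} (hg : ∀ v : Fin 2 → F, (g • v) 1 = 0 ↔ v 1 = 0) :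
    g ∈ Subgroup.normalizer (Y.elem : Set Γ) := by
  have hg' : ∀ v : Fin 2 → F, (g⁻¹ • v) 1 = 0 ↔ v 1 = 0 := fun v => by
    rw [← hg (g⁻¹ • v), smul_inv_smul]
  refine Subgroup.mem_normalizer_iff.2 fun x => ⟨Y.conj_elem hg, fun h => ?_⟩
  have := Y.conj_elem hg' h
  simpa [mul_assoc] using this

variable [CharP F p] [Fact p.Prime]

theorem elem_pow_smul {γ : Γ} (hγ : γ ∈ Y.elem) (k : ℕ) (v : Fin 2 → F) :
    γ ^ k • v = v + k • (γ • v - v) := by
  induction k with
  | zero => simp
  | succ k ih =>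
    rw [pow_succ', mul_smul, ih, smul_add, ← smul_nsmul_distrib γ k (γ • v - v), succ_nsmul,
      hγ.1 _ (Y.elem_smul_sub hγ v)]
    abel
where
  smul_nsmul_distrib (γ : Γ) (k : ℕ) (w : Fin 2 → F) : k • (γ • w) = γ • (k • w) :=
    (map_nsmul (DistribMulAction.toAddMonoidHom (Fin 2 → F) γ) k w).symm

theorem isPGroup_elem : IsPGroup p Y.elem := fun γ => ⟨1, Subtype.ext (Y.faith _ fun v => by
  rw [pow_one, SubmonoidClass.coe_pow, Y.elem_pow_smul γ.2,
    show (p : ℕ) • ((γ : Γ) • v - v) = 0 from funext fun i => by simp [CharP.cast_eq_zero F p],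
    add_zero])⟩

theorem isPGroup_root : IsPGroup p Y.root := Y.isPGroup_elem.to_le Y.root_le_elem

/-! ### Semilinearity -/

omit [CharP F p] [Fact p.Prime] in
/-- An additive map commuting with `SL₂(F)` is a scalar. -/
theorem scalar_of_comm (f : (Fin 2 → F) →+ (Fin 2 → F))
    (h : ∀ (g : SL2) (v : Fin 2 → F), f (Y.hom g • v) = Y.hom g • f v) :
    ∃ k : F, ∀ v, f v = k • v := by
  set f₁ : F → F := fun x => f ![x, 0] 0 with hf₁
  have hu : ∀ (a : F) v, f (![v 0 + a * v 1, v 1]) = ![(f v) 0 + a * (f v) 1, (f v) 1] := by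
    intro a v
    rw [← Y.up_smul, h, Y.up_smul]
  have hl : ∀ (a : F) v, f (![v 0, a * v 0 + v 1]) = ![(f v) 0, a * (f v) 0 + (f v) 1] := by
    intro a v
    rw [← Y.lo_smul, h, Y.lo_smul]
  have hx1 : ∀ x : F, f ![x, 0] 1 = 0 := by
    intro x
    have := congrFun (hu 1 ![x, 0]) 0
    simp at this
    exact this
  have hy0 : ∀ y : F, f ![0, y] 0 = 0 := by
    intro y
    have := congrFun (hl 1 ![0, y]) 1
    simp at this
    exact this
  have hsplit : ∀ a b : F, f ![a, b] = f ![a, 0] + f ![0, b] := by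
    intro a b
    rw [← map_add]; congr 1; simp
  have h12 : ∀ a y : F, f ![a * y, 0] 0 = a * f ![0, y] 1 := by
    intro a y
    have := congrFun (hu a ![0, y]) 0
    simp [hsplit (a * y) y, hy0] at this
    exact this
  have h21 : ∀ a x : F, f ![0, a * x] 1 = a * f ![x, 0] 0 := by
    intro a x
    have := congrFun (hl a ![x, 0]) 1
    simp [hsplit x (a * x), hx1] at this
    exact this
  refine ⟨f ![0, 1] 1, fun v => ?_⟩
  have ev : v = ![v 0, v 1] := by ext i; fin_cases i <;> rfl
  rw [ev, hsplit]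
  have e0 := h12 (v 0) 1
  have e1 := h21 (v 1) 1
  have e2 := h12 1 1
  rw [mul_one] at e0 e1 e2
  rw [one_mul] at e2
  ext i
  fin_cases i
  · simp [hy0, e0, mul_comm]
  · simp [hx1, e1, e2, mul_comm]

omit [CharP F p] [Fact p.Prime] in
theorem exists_twist {n : Γ} (hn : n ∈ Subgroup.normalizer (Y.hom.range : Set Γ)) (c : F) :
    ∃ k : F, ∀ v : Fin 2 → F, n • (c • v) = k • (n • v) := by
  set f : (Fin 2 → F) →+ (Fin 2 → F) :=
    (DistribMulAction.toAddMonoidHom (Fin 2 → F) n).comp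
      ((DistribMulAction.toAddMonoidHom (Fin 2 → F) c).comp
        (DistribMulAction.toAddMonoidHom (Fin 2 → F) n⁻¹)) with hf
  have hfv : ∀ v, f v = n • (c • (n⁻¹ • v)) := fun v => rfl
  obtain ⟨k, hk⟩ := Y.scalar_of_comm f (by
    intro g v
    obtain ⟨g', hg'⟩ : n⁻¹ * Y.hom g * n ∈ Y.hom.range := by
      have := (Subgroup.mem_normalizer_iff.1 (inv_mem hn) (Y.hom g)).1 ⟨g, rfl⟩
      simpa using this
    have e1 : n⁻¹ * Y.hom g = Y.hom g' * n⁻¹ := by rw [hg']; group
    have e2 : n * Y.hom g' = Y.hom g * n := by rw [hg']; group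
    rw [hfv, hfv, ← mul_smul, e1, mul_smul, ← Y.hom_smul_smul, ← mul_smul, e2, mul_smul])
  refine ⟨k, fun v => ?_⟩
  have := hk (n • v)
  rwa [hfv, inv_smul_smul] at this

/-- The field twist of an element of the normalizer. -/
noncomputable def twistFun (n : Subgroup.normalizer (Y.hom.range : Set Γ)) (c : F) : F :=
  (Y.exists_twist n.2 c).choose

omit [CharP F p] [Fact p.Prime] in
theorem twistFun_spec (n : Subgroup.normalizer (Y.hom.range : Set Γ)) (c : F) (v : Fin 2 → F) :
    (n : Γ) • (c • v) = Y.twistFun n c • ((n : Γ) • v) :=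
  (Y.exists_twist n.2 c).choose_spec v

omit [CharP F p] [Fact p.Prime] in
theorem twistFun_unique (n : Subgroup.normalizer (Y.hom.range : Set Γ)) {c k : F}
    {v : Fin 2 → F} (hv : v ≠ 0) (h : (n : Γ) • (c • v) = k • ((n : Γ) • v)) :
    Y.twistFun n c = k := by
  have hnv : (n : Γ) • v ≠ 0 := fun h0 => hv (by
    rw [← inv_smul_smul (n : Γ) v, h0, smul_zero])
  exact smul_left_injective F hnv ((Y.twistFun_spec n c v).symm.trans h)

variable [Finite F]

omit [CharP F p] [Fact p.Prime] in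
/-- The twist as a field automorphism. -/
noncomputable def twistAut (n : Subgroup.normalizer (Y.hom.range : Set Γ)) : RingAut F :=
  RingEquiv.ofBijective
    ({ toFun := Y.twistFun n
       map_one' := Y.twistFun_unique n (v := Pi.single 0 1) (Pi.single_ne_zero_iff.2 one_ne_zero)
          (by rw [one_smul, one_smul])
       map_mul' := fun a b => Y.twistFun_unique n (v := Pi.single 0 1)
          (Pi.single_ne_zero_iff.2 one_ne_zero)
          (by rw [mul_smul, mul_smul, Y.twistFun_spec, Y.twistFun_spec])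
       map_zero' := Y.twistFun_unique n (v := Pi.single 0 1) (Pi.single_ne_zero_iff.2 one_ne_zero)
          (by rw [zero_smul, zero_smul, smul_zero])
       map_add' := fun a b => Y.twistFun_unique n (v := Pi.single 0 1)
          (Pi.single_ne_zero_iff.2 one_ne_zero)
          (by rw [add_smul, smul_add, Y.twistFun_spec, Y.twistFun_spec, add_smul]) } : F →+* F)
    (Finite.injective_iff_bijective.1 (RingHom.injective _))

omit [CharP F p] [Fact p.Prime] in
theorem twistAut_apply (n : Subgroup.normalizer (Y.hom.range : Set Γ)) (c : F) :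
    Y.twistAut n c = Y.twistFun n c := rfl

omit [CharP F p] [Fact p.Prime] in
theorem smul_twist (n : Subgroup.normalizer (Y.hom.range : Set Γ)) (c : F) (v : Fin 2 → F) :
    (n : Γ) • (c • v) = Y.twistAut n c • ((n : Γ) • v) := Y.twistFun_spec n c v

omit [CharP F p] [Fact p.Prime] in
/-- The homomorphism to the field automorphisms. -/
noncomputable def twist : Subgroup.normalizer (Y.hom.range : Set Γ) →* RingAut F :=
  MonoidHom.mk' Y.twistAut fun a b => RingEquiv.ext fun c =>
    Y.twistFun_unique (a * b) (v := Pi.single 0 1) (Pi.single_ne_zero_iff.2 one_ne_zero) (by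
      rw [Subgroup.coe_mul, mul_smul, mul_smul, Y.smul_twist, Y.smul_twist]
      rfl)

omit [CharP F p] [Fact p.Prime] in
theorem twist_eq_one_of_fix {n : Subgroup.normalizer (Y.hom.range : Set Γ)} {v : Fin 2 → F}
    (hv : v ≠ 0) (h : ∀ c : F, (n : Γ) • (c • v) = c • v) : Y.twist n = 1 := by
  refine RingEquiv.ext fun c => Y.twistFun_unique n hv ?_
  rw [h]
  congr 1
  have := h 1
  rw [one_smul] at this
  exact this.symm

omit [CharP F p] [Fact p.Prime] in
theorem linear_of_twist {n : Subgroup.normalizer (Y.hom.range : Set Γ)} (h : Y.twist n = 1) (c : F)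
    (v : Fin 2 → F) : (n : Γ) • (c • v) = c • ((n : Γ) • v) := by
  have e : Y.twistAut n c = c := RingEquiv.ext_iff.1 h c
  rw [Y.smul_twist, e]

/-- A linear `p`-element of the normalizer lies in the image of `SL₂(F)`. -/
theorem mem_range_of_linear {n : Γ} (hn : ∀ (c : F) (v : Fin 2 → F), n • (c • v) = c • (n • v))
    {k : ℕ} (hk : n ^ p ^ k = 1) : n ∈ Y.hom.range := by
  set f : (Fin 2 → F) →ₗ[F] (Fin 2 → F) :=
    { toFun := fun v => n • v
      map_add' := smul_add n
      map_smul' := hn } with hf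
  set A := LinearMap.toMatrix' f with hA
  have hAv : ∀ v, A *ᵥ v = n • v := fun v => LinearMap.toMatrix'_mulVec f v
  have hpow : ∀ (j : ℕ) (v : Fin 2 → F), (A ^ j) *ᵥ v = n ^ j • v := by
    intro j
    induction j with
    | zero => intro v; simp
    | succ j ih =>
      intro v
      rw [pow_succ', ← Matrix.mulVec_mulVec, ih, hAv, pow_succ', mul_smul]
  have h1 : A ^ p ^ k = 1 := Matrix.mulVec_injective (funext fun v => by
    rw [hpow, hk, one_smul, Matrix.one_mulVec])
  have hdet : A.det = 1 := by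
    have h2 : A.det ^ p ^ k = 1 := by rw [← Matrix.det_pow, h1, Matrix.det_one]
    have h3 : (A.det - 1) ^ p ^ k = 0 := by rw [sub_pow_char_pow, h2, one_pow, sub_self]
    exact sub_eq_zero.1 ((pow_eq_zero_iff (pow_ne_zero _ (Fact.out : p.Prime).ne_zero)).1 h3)
  exact ⟨⟨A, hdet⟩, Y.eq_of_smul fun v => (Y.spec _ v).trans (hAv v)⟩

variable [Finite Γ]

/-- A `p`-subgroup of the normalizer containing the root group is semilinear over it. -/
theorem mem_root_of_twist {T : Subgroup Γ} (hT : IsPGroup p T) (hUT : Y.root ≤ T) {t : Γ} (ht : t ∈ T)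
    (htN : t ∈ Subgroup.normalizer (Y.hom.range : Set Γ)) (h : Y.twist ⟨t, htN⟩ = 1) : t ∈ Y.root := by
  obtain ⟨k, hk⟩ := hT ⟨t, ht⟩
  have htr := Y.mem_range_of_linear (Y.linear_of_twist h) (k := k) (congrArg Subtype.val hk)
  set P := (T ⊓ Y.hom.range).comap Y.hom with hP
  have hPp : IsPGroup p P := (hT.to_le inf_le_left).comap_of_injective _ Y.hom_injective
  have hPc := card_le_of_pgroup_sl hPp (dvd_card_field (p := p))
  have hle : upGroup F ≤ P := fun g hg => ⟨hUT ⟨g, hg, rfl⟩, ⟨g, rfl⟩⟩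
  have he : upGroup F = P :=
    Subgroup.eq_of_le_of_card_ge hle (by rw [card_upGroup]; exact hPc)
  obtain ⟨g, rfl⟩ := htr
  exact ⟨g, he ▸ ⟨ht, g, rfl⟩, rfl⟩

/-- A Sylow `p`-subgroup of the group inside the normalizer, containing the root group. -/
theorem exists_sylow : ∃ T : Subgroup Γ, IsPGroup p T ∧ T ≤ Subgroup.normalizer (Y.hom.range : Set Γ) ∧
    Y.root ≤ T ∧ ¬ p ∣ T.index := by
  set N := Subgroup.normalizer (Y.hom.range : Set Γ)
  obtain ⟨T, hUT, hTN, hTp, hTi⟩ :=
    CfsgLib.Fusion.exists_le_not_dvd_relIndex Y.isPGroup_root Y.root_le_normalizer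
  refine ⟨T, hTp, hTN, hUT, fun hd => ?_⟩
  rw [← Subgroup.relIndex_mul_index hTN] at hd
  exact ((Fact.out : p.Prime).dvd_mul.1 hd).elim hTi Y.index

omit [CharP F p] [Finite Γ] in
/-- The elements fixing the line pointwise are linear. -/
theorem twist_eq_one_of_line {n : Subgroup.normalizer (Y.hom.range : Set Γ)}
    (h : ∀ v : Fin 2 → F, v 1 = 0 → (n : Γ) • v = v) : Y.twist n = 1 :=
  Y.twist_eq_one_of_fix (v := ![1, 0]) (fun e => by simpa using congrFun e 0) fun c => h _ (by simp)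

theorem card_le_of_injOn_twist {T W : Subgroup Γ}
    (hTN : T ≤ Subgroup.normalizer (Y.hom.range : Set Γ)) (hW : W ≤ T) (hexp : ∀ w ∈ W, w ^ p = 1)
    (hinj : ∀ w (hw : w ∈ W), Y.twist ⟨w, hTN (hW hw)⟩ = 1 → w = 1) : Nat.card W ≤ p := by
  let f : W →* RingAut F := Y.twist.comp (Subgroup.inclusion (hW.trans hTN))
  have hf : Function.Injective f := (injective_iff_map_eq_one f).2 fun w hw =>
    Subtype.ext (hinj w w.2 hw)
  haveI := isCyclic_ringAut p (F := F)
  haveI : IsCyclic f.range := inferInstance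
  haveI : IsCyclic W := isCyclic_of_injective f hf
  rw [← IsCyclic.exponent_eq_card]
  refine Nat.le_of_dvd (Fact.out : p.Prime).pos (Monoid.exponent_dvd_of_forall_pow_eq_one fun w => ?_)
  exact Subtype.ext (hexp w w.2)

omit [Finite Γ] in
/-- In the prime field case the stabilizer of the series is small. -/
theorem card_elem_le_of_prime (h : Nat.card F = p) : Nat.card Y.elem ≤ p := by
  haveI := Fintype.ofFinite F
  have hrep : ∀ c : F, ∃ n : ℕ, (n : F) = c := by
    intro c
    let f : ZMod p →+* F := ZMod.castHom dvd_rfl F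
    have hs : Function.Surjective f :=
      (Fintype.bijective_iff_injective_and_card f).2 ⟨f.injective, by
        rw [ZMod.card, ← Nat.card_eq_fintype_card, h]⟩ |>.surjective
    obtain ⟨z, hz⟩ := hs c
    exact ⟨z.val, by rw [← hz]; simp [f, ZMod.natCast_val]⟩
  refine le_of_le_of_eq (Nat.card_le_card_of_injective
    (fun γ : Y.elem => ((γ : Γ) • (![0, 1] : Fin 2 → F)) 0) ?_) h
  intro γ δ hγδ
  refine Subtype.ext (Y.eq_of_smul fun v => ?_)
  obtain ⟨n, hn⟩ := hrep (v 1)
  have ev : v = ![v 0, 0] + n • (![0, 1] : Fin 2 → F) := by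
    ext i; fin_cases i <;> simp [hn, nsmul_eq_mul]
  have e : ∀ ε : Y.elem, (ε : Γ) • v = ![v 0, 0] + n • ((ε : Γ) • (![0, 1] : Fin 2 → F)) := by
    intro ε
    conv_lhs => rw [ev]
    rw [smul_add, ε.2.1 _ (by simp)]
    congr 1
    exact map_nsmul (DistribMulAction.toAddMonoidHom (Fin 2 → F) (ε : Γ)) n _
  have e2 : (γ : Γ) • (![0, 1] : Fin 2 → F) = (δ : Γ) • (![0, 1] : Fin 2 → F) := by
    ext i; fin_cases i
    · exact hγδ
    · exact (γ.2.2 _).trans (δ.2.2 _).symm
  rw [e, e, e2]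

/-- A conjugate of the root group inside a Sylow subgroup of the normalizer meets the root group,
unless the field is prime; then the conjugating element fixes the line. -/
theorem line_of_conj_root {T : Subgroup Γ} (hT : IsPGroup p T)
    (hTN : T ≤ Subgroup.normalizer (Y.hom.range : Set Γ)) (hUT : Y.root ≤ T) (hq : Nat.card F ≠ p)
    {y : Γ} (hy : conjBy y Y.root ≤ T) : ∀ v : Fin 2 → F, (y • v) 1 = 0 ↔ v 1 = 0 := by
  have hW2 : ∀ w ∈ conjBy y Y.root, w ^ p = 1 := by
    intro w hw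
    have h1 : y⁻¹ * w * y ∈ Y.root := mem_conjBy.1 hw
    have h3 : (y⁻¹ * w * y) ^ p = 1 := Y.faith _ fun v => by
      rw [Y.elem_pow_smul (Y.root_le_elem h1),
        show (p : ℕ) • ((y⁻¹ * w * y) • v - v) = 0 from funext fun i => by simp [CharP.cast_eq_zero F p],
        add_zero]
    have e : w = MulAut.conj y (y⁻¹ * w * y) := by simp [mul_assoc]
    rw [e, ← map_pow, h3, map_one]
  obtain ⟨w, hw, hwU, hw1⟩ : ∃ w, w ∈ conjBy y Y.root ∧ w ∈ Y.root ∧ w ≠ 1 := by
    by_contra hall
    push Not at hall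
    have hle := Y.card_le_of_injOn_twist hTN hy hW2 fun w hw h1 =>
      hall w hw (Y.mem_root_of_twist hT hUT (hy hw) _ h1)
    rw [card_conjBy, Y.card_root] at hle
    exact hq (le_antisymm hle (Nat.le_of_dvd Nat.card_pos dvd_card_field))
  have hfix : ∀ v : Fin 2 → F, v 1 = 0 → (y • v) 1 = 0 := by
    intro v hv
    by_contra hne
    refine hw1 (Y.root_eq_one hwU hne ?_)
    have := Y.root_fix (mem_conjBy.1 hw) hv
    rw [mul_smul, mul_smul, inv_smul_eq_iff] at this
    exact this
  intro v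
  refine ⟨fun h => ?_, hfix v⟩
  have : Function.Bijective (fun a : {v : Fin 2 → F // v 1 = 0} =>
      (⟨y • a.1, hfix a.1 a.2⟩ : {v : Fin 2 → F // v 1 = 0})) :=
    Finite.injective_iff_bijective.1 fun a b e =>
      Subtype.ext (MulAction.injective y (congrArg Subtype.val e))
  obtain ⟨a, ha⟩ := this.surjective ⟨y • v, h⟩
  rw [← MulAction.injective y (congrArg Subtype.val ha)]
  exact a.2

/-- The stabilizer of the series is the root group. -/
theorem elem_eq_root : Y.elem = Y.root := by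
  refine le_antisymm ?_ Y.root_le_elem
  by_cases hq : Nat.card F = p
  · exact (Subgroup.eq_of_le_of_card_ge Y.root_le_elem
      (by rw [Y.card_root, hq]; exact Y.card_elem_le_of_prime hq)).ge
  obtain ⟨T, hT, hTN, hUT, hTi⟩ := Y.exists_sylow
  obtain ⟨y, -, hy⟩ := CfsgLib.Fusion.exists_conj_le_of_not_dvd_relIndex hT le_top
    (by rwa [relIndex_top_right]) Y.isPGroup_elem le_top
  have hline := Y.line_of_conj_root hT hTN hUT hq ((CfsgLib.Fusion.conjBy_mono Y.root_le_elem).trans hy)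
  intro γ hγ
  have h1 : y * γ * y⁻¹ ∈ T := hy (conj_mem_conjBy hγ)
  have h2 : y * γ * y⁻¹ ∈ Y.elem := Y.conj_elem hline hγ
  have hcard : conjBy y Y.elem ≤ Y.root := by
    intro x hx
    have hxT := hy hx
    have hxe : x ∈ Y.elem := by
      have := Y.conj_elem hline (mem_conjBy.1 hx)
      simpa [mul_assoc] using this
    exact Y.mem_root_of_twist hT hUT hxT (hTN hxT) (Y.twist_eq_one_of_line hxe.1)
  have := Subgroup.card_le_of_le hcard
  rw [card_conjBy] at this
  exact (Subgroup.eq_of_le_of_card_ge Y.root_le_elem this).ge hγ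

theorem mem_normalizer_root {g : Γ} (hg : ∀ v : Fin 2 → F, (g • v) 1 = 0 ↔ v 1 = 0) :
    g ∈ Subgroup.normalizer (Y.root : Set Γ) := Y.elem_eq_root ▸ Y.mem_normalizer_elem hg

/-- The elements of the root group stabilizing the translate of the line by `g`. -/
def stab (g : Γ) : Subgroup Γ where
  carrier := {k | k ∈ Y.root ∧ ∀ v : Fin 2 → F, (g⁻¹ • (k • v)) 1 = 0 ↔ (g⁻¹ • v) 1 = 0}
  one_mem' := ⟨one_mem _, fun v => by rw [one_smul]⟩
  mul_mem' := fun {a b} ha hb => ⟨mul_mem ha.1 hb.1, fun v => by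
    rw [mul_smul, ha.2, hb.2]⟩
  inv_mem' := fun {a} ha => ⟨inv_mem ha.1, fun v => by
    conv_rhs => rw [← smul_inv_smul a v, ha.2]⟩

omit [Finite Γ] [CharP F p] [Fact p.Prime] in
/-- A quadratic semilinear map over a field automorphism of odd order is linear. -/
theorem twist_eq_one_of_quad {n : Subgroup.normalizer (Y.hom.range : Set Γ)} (h2 : (2 : F) ≠ 0)
    (hsq : Y.twist n ^ 2 = 1 → Y.twist n = 1)
    (hq : ∀ v : Fin 2 → F, (n : Γ) • ((n : Γ) • v - v) = (n : Γ) • v - v) : Y.twist n = 1 := by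
  by_contra hne
  obtain ⟨c, hc⟩ : ∃ c, Y.twist n (Y.twist n c) ≠ c := by
    by_contra hall
    push Not at hall
    exact hne (hsq (RingEquiv.ext fun c => by rw [pow_two]; exact hall c))
  set φ : RingAut F := Y.twist n
  have hs : ∀ (c : F) (v : Fin 2 → F), (n : Γ) • (c • v) = φ c • ((n : Γ) • v) := Y.smul_twist n
  have key : ∀ v : Fin 2 → F, (2 * (φ (φ c) - φ c)) • ((n : Γ) • v) = (φ (φ c) - c) • v := by
    intro v
    have h := hq (c • v)
    have h' := hq v
    rw [smul_sub] at h h'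
    rw [hs, hs] at h
    have e : (n : Γ) • ((n : Γ) • v) = (2 : F) • ((n : Γ) • v) - v := by
      rw [sub_eq_iff_eq_add.1 h', two_smul]; abel
    rw [e] at h
    generalize (n : Γ) • v = w at h ⊢
    linear_combination (norm := module) h
  have hk : φ (φ c) - c ≠ 0 := sub_ne_zero.2 hc
  have he : (![1, 0] : Fin 2 → F) ≠ 0 := fun e => by simpa using congrFun e 0
  have ha : 2 * (φ (φ c) - φ c) ≠ 0 := fun h0 => by
    have h1 := key ![1, 0]
    rw [h0, zero_smul] at h1
    exact he ((smul_eq_zero.1 h1.symm).resolve_left hk)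
  set k := (2 * (φ (φ c) - φ c))⁻¹ * (φ (φ c) - c) with hkdef
  have hsc : ∀ v : Fin 2 → F, (n : Γ) • v = k • v := fun v => by
    rw [hkdef, mul_smul, ← key, smul_smul, inv_mul_cancel₀ ha, one_smul]
  refine hne (RingEquiv.ext fun d => Y.twistFun_unique n he ?_)
  rw [hsc, hsc, smul_smul, smul_smul, mul_comm]
  rfl

/-- Few elements of the root group stabilize another translate of the line: none when `p` is odd, at
most one besides the identity when `p = 2`. -/
theorem stab_small (hq : Nat.card F ≠ p) {g : Γ}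
    (hg : ∃ v : Fin 2 → F, (g⁻¹ • v) 1 = 0 ∧ v 1 ≠ 0) :
    (p ≠ 2 → Y.stab g = ⊥) ∧ Nat.card (Y.stab g) ≤ p := by
  obtain ⟨T, hT, hTN, hUT, hTi⟩ := Y.exists_sylow
  set K := conjBy g⁻¹ (Y.stab g) with hK
  have hmemK : ∀ {s : Γ}, s ∈ K → g * s * g⁻¹ ∈ Y.stab g := fun h => by
    have := mem_conjBy.1 h
    simpa using this
  have hKN : K ≤ Subgroup.normalizer (Y.root : Set Γ) := by
    intro s hs
    refine Y.mem_normalizer_root fun v => ?_
    have := (hmemK hs).2 (g • v)
    rw [inv_smul_smul, ← mul_smul, ← mul_smul, show g⁻¹ * (g * s * g⁻¹) * g = s by group] at this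
    exact this
  have hKp : IsPGroup p K :=
    CfsgLib.Fusion.isPGroup_conjBy g⁻¹ (Y.isPGroup_root.to_le fun k hk => hk.1)
  have hXp : IsPGroup p (K ⊔ Y.root : Subgroup Γ) :=
    IsPGroup.to_sup_of_normal_right' hKp Y.isPGroup_root hKN
  obtain ⟨y, -, hy⟩ := CfsgLib.Fusion.exists_conj_le_of_not_dvd_relIndex hT le_top
    (by rwa [relIndex_top_right]) hXp le_top
  have hline := Y.line_of_conj_root hT hTN hUT hq ((CfsgLib.Fusion.conjBy_mono le_sup_right).trans hy)
  have hKT : conjBy y K ≤ T := (CfsgLib.Fusion.conjBy_mono le_sup_left).trans hy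
  -- the conjugates of nontrivial stabilizing elements are not linear
  have hinj : ∀ t (ht : t ∈ conjBy y K), Y.twist ⟨t, hTN (hKT ht)⟩ = 1 → t = 1 := by
    intro t ht h1
    have htU := Y.mem_root_of_twist hT hUT (hKT ht) _ h1
    have hs : y⁻¹ * t * y ∈ Y.root := by
      have := (Subgroup.mem_normalizer_iff.1 (inv_mem (Y.mem_normalizer_root hline)) t).1 htU
      simpa using this
    have hk : g * (y⁻¹ * t * y) * g⁻¹ ∈ Y.root := (hmemK (mem_conjBy.1 ht)).1
    obtain ⟨v, hv1, hv2⟩ := hg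
    have e := Y.root_eq_one hk hv2 (by rw [mul_smul, mul_smul, Y.root_fix hs hv1, smul_inv_smul])
    calc t = y * g⁻¹ * (g * (y⁻¹ * t * y) * g⁻¹) * g * y⁻¹ := by group
      _ = 1 := by rw [e]; group
  have hquad : ∀ t ∈ conjBy y K, (∀ v : Fin 2 → F, t • (t • v - v) = t • v - v) ∧ t ^ p = 1 := by
    intro t ht
    set k := g * (y⁻¹ * t * y) * g⁻¹ with hkdef
    have hk : k ∈ Y.elem := Y.root_le_elem (hmemK (mem_conjBy.1 ht)).1
    have e : t = MulAut.conj (y * g⁻¹) k := by simp [hkdef, mul_assoc]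
    have e' : t = (y * g⁻¹) * k * (y * g⁻¹)⁻¹ := e
    refine ⟨fun v => ?_, ?_⟩
    · rw [e']
      generalize y * g⁻¹ = a
      have h2 := congrArg (fun w => a • w) (hk.1 _ (Y.elem_smul_sub hk (a⁻¹ • v)))
      simp only [smul_sub, smul_inv_smul] at h2
      simp only [smul_sub, mul_smul, inv_smul_smul]
      exact h2
    · rw [e, ← map_pow, show k ^ p = 1 from Y.faith _ fun v => by
        rw [Y.elem_pow_smul hk,
          show (p : ℕ) • (k • v - v) = 0 from funext fun i => by simp [CharP.cast_eq_zero F p],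
          add_zero], map_one]
  have hcard : Nat.card (conjBy y K) = Nat.card (Y.stab g) := by rw [card_conjBy, hK, card_conjBy]
  refine ⟨fun hp => ?_, hcard ▸ Y.card_le_of_injOn_twist hTN hKT (fun t ht => (hquad t ht).2) hinj⟩
  have hbot : conjBy y K = ⊥ := by
    rw [eq_bot_iff]
    intro t ht
    refine Subgroup.mem_bot.2 (hinj t ht (Y.twist_eq_one_of_quad ?_ ?_ (hquad t ht).1))
    · intro h2
      exact hp ((Nat.prime_dvd_prime_iff_eq (Fact.out : p.Prime) Nat.prime_two).1
        ((CharP.cast_eq_zero_iff F p 2).1 (by exact_mod_cast h2)))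
    · intro h
      have hp' : (Y.twist ⟨t, hTN (hKT ht)⟩) ^ p = 1 := by
        rw [← map_pow, show (⟨t, hTN (hKT ht)⟩ : Subgroup.normalizer (Y.hom.range : Set Γ)) ^ p = 1
          from Subtype.ext (hquad t ht).2, map_one]
      have hd := Nat.dvd_gcd (orderOf_dvd_of_pow_eq_one h) (orderOf_dvd_of_pow_eq_one hp')
      rw [(Nat.coprime_primes Nat.prime_two (Fact.out : p.Prime)).2 (Ne.symm hp)] at hd
      exact orderOf_eq_one_iff.1 (Nat.dvd_one.1 hd)
  exact Subgroup.card_eq_one.1 (by rw [← hcard, hbot, Subgroup.card_bot])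

end Sys

end CfsgLib.NatEmb
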