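import Cfsg.Agent.Lib.LocalStructure.NatSLTwoEmbedded.Setup
import Cfsg.Agent.Lib.Invol.GLFourTwo
import Cfsg.Agent.Lib.Invol.SimpleSixty
import Mathlib.GroupTheory.SpecificGroups.Alternating.Simple

/-!
# The field of four elements: the only exception is the alternating group of degree seven

The group embeds in `A₈ ≅ GL₄(2)` and its Sylow `2`-subgroups have order at most `8`; either the
normalizer of `SL₂(4)` has index at most `3`, and then contains a normal subgroup between, or the group
has an element of order `7` and fixes exactly one point.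
-/

set_option autoImplicit false
set_option linter.style.haveILetI false
set_option linter.unusedSectionVars false

namespace CfsgLib.NatEmb

open Subgroup

universe u v

section General

variable {G : Type*} [Group G]

/-- In a simple group the order divides the factorial of every proper index. -/
theorem card_dvd_index_factorial [Finite G] [IsSimpleGroup G] {K : Subgroup G} (hK : K ≠ ⊤) :
    Nat.card G ∣ K.index.factorial := by
  have hcore : K.normalCore = ⊥ := (Subgroup.normalCore_normal K).eq_bot_or_eq_top.resolve_right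
    fun h => hK (top_le_iff.1 (h ▸ K.normalCore_le))
  have hker : (MulAction.toPermHom G (G ⧸ K)).ker = ⊥ := K.normalCore_eq_ker ▸ hcore
  have := Subgroup.card_dvd_of_injective _ ((MonoidHom.ker_eq_bot_iff _).1 hker)
  rwa [Nat.card_perm] at this

/-- A simple group of order 60 inside a group, with index below 60 and normalizer of index below 5, is
normal. -/
theorem normal_of_small_index [Finite G] {L : Subgroup G} [IsSimpleGroup L] (h60 : Nat.card L = 60)
    (hL : L.index < 60) (hN : (Subgroup.normalizer (L : Set G)).index ≤ 4) : L.Normal := by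
  set N := Subgroup.normalizer (L : Set G) with hNdef
  have hLK : L ≤ N.normalCore := by
    haveI := N.normalCore_normal
    rcases ((inferInstance : (N.normalCore.subgroupOf L).Normal)).eq_bot_or_eq_top with h | h
    · exfalso
      have hker : ((MulAction.toPermHom G (G ⧸ N)).comp L.subtype).ker = ⊥ := by
        rw [eq_bot_iff, ← h]
        intro x hx
        rw [Subgroup.mem_subgroupOf, Subgroup.normalCore_eq_ker]
        exact hx
      have := Subgroup.card_dvd_of_injective _ ((MonoidHom.ker_eq_bot_iff _).1 hker)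
      rw [Nat.card_perm, ← Subgroup.index_eq_card, h60] at this
      interval_cases N.index <;> simp [Nat.factorial] at this
    · exact Subgroup.subgroupOf_eq_top.1 h
  haveI hn : (L.subgroupOf N.normalCore).Normal := Subgroup.normal_subgroupOf_iff_le_normalizer hLK |>.2
    N.normalCore_le
  refine ⟨fun x hx g => ?_⟩
  let c : L →* N.normalCore :=
    MonoidHom.mk' (fun y => ⟨g * y * g⁻¹, N.normalCore_normal.conj_mem _ (hLK y.2) g⟩)
      fun a b => Subtype.ext (by simp [mul_assoc])
  let f := (QuotientGroup.mk' (L.subgroupOf N.normalCore)).comp c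
  rcases (MonoidHom.normal_ker f).eq_bot_or_eq_top with h | h
  · exfalso
    have := Nat.le_of_dvd Nat.card_pos (Subgroup.card_dvd_of_injective _ ((MonoidHom.ker_eq_bot_iff _).1 h))
    rw [h60, ← Subgroup.index_eq_card] at this
    have h2 : (L.subgroupOf N.normalCore).index ∣ L.index := Subgroup.relIndex_dvd_index_of_le hLK
    have := Nat.le_of_dvd (Nat.pos_of_ne_zero L.index_ne_zero_of_finite) h2
    omega
  · have hx' : f ⟨x, hx⟩ = 1 := MonoidHom.mem_ker.1 (h ▸ Subgroup.mem_top _)
    exact Subgroup.mem_subgroupOf.1 ((QuotientGroup.eq_one_iff _).1 hx')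

/-- A group of order `60k`, `7 ∣ k`, with Sylow `2`-subgroups of order at most `8` containing a simple
group of order 60 and embedded in `A₈` is `A₇`. -/
theorem alt_seven_of_embedding [Finite G] {L : Subgroup G} [IsSimpleGroup L] (h60 : Nat.card L = 60)
    (h16 : ¬ 16 ∣ Nat.card G) (h7 : 7 ∣ L.index) (φ : G →* alternatingGroup (Fin 8))
    (hφ : Function.Injective φ) : Nonempty (G ≃* alternatingGroup (Fin 7)) := by
  classical
  haveI : Fact (Nat.Prime 7) := ⟨by norm_num⟩
  letI : MulAction G (Fin 8) :=
    MulAction.compHom (Fin 8) ((alternatingGroup (Fin 8)).subtype.comp φ)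
  have hsm : ∀ (γ : G) (a : Fin 8), γ • a = (φ γ : Equiv.Perm (Fin 8)) a := fun γ a => rfl
  obtain ⟨x, hx⟩ := exists_prime_orderOf_dvd_card' (G := G) 7
    (h7.trans ⟨Nat.card L, by rw [mul_comm]; exact L.card_mul_index.symm⟩)
  set σ : Equiv.Perm (Fin 8) := (φ x : Equiv.Perm (Fin 8)) with hσ
  have ho : orderOf σ = 7 := by
    rw [hσ, Subgroup.orderOf_coe, orderOf_injective φ hφ, hx]
  have hcyc : σ.IsCycle := Equiv.Perm.isCycle_of_prime_order' (by rw [ho]; norm_num)
    (by rw [Fintype.card_fin, ho]; norm_num)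
  have hs : σ.support.card = 7 := hcyc.orderOf.symm.trans ho
  obtain ⟨a, ha⟩ := Finset.card_pos.1 (by omega : 0 < σ.support.card)
  have horb : ∀ z, z ∈ σ.support → z ∈ MulAction.orbit G a := by
    intro z hz
    obtain ⟨i, hi⟩ := hcyc.exists_zpow_eq (Equiv.Perm.mem_support.1 ha) (Equiv.Perm.mem_support.1 hz)
    exact ⟨x ^ i, by rw [← hi, hσ, ← SubgroupClass.coe_zpow, ← map_zpow]; rfl⟩
  -- not transitive
  obtain ⟨b, hb⟩ : ∃ b, b ∉ MulAction.orbit G a := by
    by_contra hall
    push Not at hall
    haveI : MulAction.IsPretransitive G (Fin 8) := by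
      refine ⟨fun u w => ?_⟩
      obtain ⟨g, hg⟩ := hall u
      obtain ⟨g', hg'⟩ := hall w
      exact ⟨g' * g⁻¹, by rw [mul_smul, ← hg, inv_smul_smul]; exact hg'⟩
    set S := MulAction.stabilizer G a
    have hSi : S.index = 8 := by
      rw [MulAction.index_stabilizer_of_transitive G a, Nat.card_fin]
    have hodd : ¬ 2 ∣ Nat.card S := fun h2 => h16 (by
      rw [← S.card_mul_index, hSi]; exact Nat.mul_dvd_mul_right h2 8)
    have h1 := (S.subgroupOf L).card_mul_index
    have h2 : Nat.card (S.subgroupOf L) ∣ Nat.card S :=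
      Subgroup.card_dvd_of_injective
        (MonoidHom.mk' (fun y : S.subgroupOf L => (⟨(y : L), y.2⟩ : S)) fun _ _ => rfl)
        fun y z e => Subtype.ext (Subtype.ext (congrArg Subtype.val e :))
    have hne : S.subgroupOf L ≠ ⊤ := fun e => hodd ((show 2 ∣ Nat.card (S.subgroupOf L) by
      rw [e, Subgroup.card_top, h60]; norm_num).trans h2)
    have h5 := CfsgLib.Invol.five_le_index h60 hne
    have hle : (S.subgroupOf L).index ≤ 8 :=
      ((Subgroup.relIndex_le_of_le_right (le_top : L ≤ ⊤)
        (by rw [Subgroup.relIndex_top_right, hSi]; norm_num)).trans_eq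
          (by rw [Subgroup.relIndex_top_right, hSi]) : S.relIndex L ≤ 8)
    rw [h60] at h1
    have h4 : 4 ∣ (S.subgroupOf L).index := by
      have hc : Nat.Coprime 4 (Nat.card (S.subgroupOf L)) := by
        refine (Nat.Coprime.pow_left 2 ?_ : Nat.Coprime (2 ^ 2) _)
        exact Nat.prime_two.coprime_iff_not_dvd.2 fun h => hodd (h.trans h2)
      exact hc.dvd_of_dvd_mul_left (by rw [h1]; norm_num)
    have h8 : (S.subgroupOf L).index = 8 := by omega
    rw [h8] at h1
    omega
  have hbσ : σ.supportᶜ = {b} := (Finset.eq_of_subset_of_card_le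
    (Finset.singleton_subset_iff.2 (Finset.mem_compl.2 fun h => hb (horb b h)))
    (by rw [Finset.card_compl, hs, Fintype.card_fin, Finset.card_singleton])).symm
  have hfix : ∀ γ : G, γ • b = b := by
    intro γ
    by_contra hne
    have h1 : γ • b ∈ σ.support := by
      by_contra h
      exact hne (Finset.mem_singleton.1 (hbσ ▸ Finset.mem_compl.2 h))
    obtain ⟨g, hg⟩ := horb _ h1
    exact hb ⟨γ⁻¹ * g, by simp only [mul_smul]; rw [show g • a = γ • b from hg, inv_smul_smul]⟩
  have hp : ∀ (γ : G) (z : Fin 8), (φ γ : Equiv.Perm (Fin 8)) z ≠ b ↔ z ≠ b := fun γ z => by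
    conv_lhs => rw [← hsm γ z, ← hfix γ]
    exact (MulAction.injective γ).ne_iff
  let f : G →* alternatingGroup (Fin 7) := MonoidHom.mk'
    (fun γ => ⟨(finSuccAboveEquiv b).symm.permCongr ((φ γ : Equiv.Perm (Fin 8)).subtypePerm (hp γ)), by
      rw [Equiv.Perm.mem_alternatingGroup, Equiv.Perm.sign_permCongr, Equiv.Perm.sign_subtypePerm]
      · exact (φ γ).2
      · intro z hz e
        exact hz (by rw [e]; exact hfix γ)⟩)
    fun γ δ => by
      ext i
      simp [Equiv.permCongr_apply]
  have hf : Function.Injective f := by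
    intro γ δ e
    have e1 : (finSuccAboveEquiv b).symm.permCongr ((φ γ : Equiv.Perm (Fin 8)).subtypePerm (hp γ)) =
        (finSuccAboveEquiv b).symm.permCongr ((φ δ : Equiv.Perm (Fin 8)).subtypePerm (hp δ)) :=
      congrArg Subtype.val e
    have e2 := (finSuccAboveEquiv b).symm.permCongr.injective e1
    refine hφ (Subtype.ext (Equiv.ext fun z => ?_))
    by_cases hz : z = b
    · subst hz
      rw [← hsm, ← hsm, hfix, hfix]
    · have := congrArg Subtype.val (Equiv.ext_iff.1 e2 ⟨z, hz⟩)
      simpa using this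
  have hA : Nat.card (alternatingGroup (Fin 7)) = 2520 := by
    rw [nat_card_alternatingGroup, Nat.card_fin]; rfl
  haveI := alternatingGroup.isSimpleGroup (α := Fin 7) (by rw [Nat.card_fin]; norm_num)
  have hr : f.range = ⊤ := by
    by_contra hne
    have h1 := card_dvd_index_factorial hne
    have h2 := f.range.card_mul_index
    rw [← Nat.card_congr (MonoidHom.ofInjective hf).toEquiv, ← L.card_mul_index, h60, hA] at h2
    rw [hA] at h1
    obtain ⟨j, hj⟩ := h7
    rw [hj] at h2
    have hj0 : 1 ≤ j := Nat.one_le_iff_ne_zero.2 fun h0 => by simp [h0] at h2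
    have hile : f.range.index ≤ 6 := by nlinarith
    interval_cases f.range.index <;> simp [Nat.factorial] at h1
  exact ⟨(MonoidHom.ofInjective hf).trans ((MulEquiv.subgroupCongr hr).trans Subgroup.topEquiv)⟩

/-- `SL₂` of a field of characteristic two with at least four elements is simple. -/
theorem isSimpleGroup_sl_two {F : Type u} [Field F] [Finite F] [CharP F 2] (h : 4 ≤ Nat.card F) :
    IsSimpleGroup (Matrix.SpecialLinearGroup (Fin 2) F) := by
  haveI := (CfsgLib.Perm.Dickson.psl_simple_noncomm h).1
  have hc : Subgroup.center (Matrix.SpecialLinearGroup (Fin 2) F) = ⊥ := by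
    refine eq_bot_iff.2 fun g hg => Subgroup.mem_bot.2 ?_
    obtain ⟨r, hr, hrg⟩ := Matrix.SpecialLinearGroup.mem_center_iff.1 hg
    have hr1 : r = 1 := by
      have h2 : (r - 1) ^ 2 = 0 := by
        rw [Fintype.card_fin] at hr
        rw [sub_pow_char, one_pow, hr, sub_self]
      exact sub_eq_zero.1 (pow_eq_zero_iff two_ne_zero |>.1 h2)
    exact Subtype.ext (by rw [← hrg, hr1, map_one]; rfl)
  let e : Matrix.SpecialLinearGroup (Fin 2) F ≃* Matrix.ProjectiveSpecialLinearGroup (Fin 2) F :=
    MulEquiv.ofBijective (QuotientGroup.mk' (Subgroup.center _))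
      ⟨(MonoidHom.ker_eq_bot_iff _).1 (by rw [QuotientGroup.ker_mk', hc]),
        QuotientGroup.mk'_surjective _⟩
  exact e.isSimpleGroup

end General

variable {p : ℕ} {F : Type u} [Field F] [Finite F] [CharP F p] [Fact p.Prime] {Γ : Type v} [Group Γ]
  [Finite Γ] [DistribMulAction Γ (Fin 2 → F)]

/-- Over the field of four elements the group is `A₇` unless `SL₂(4)` is normal. -/
theorem Sys.four (Y : Sys p F Γ) (hq : Nat.card F = 4) :
    Y.hom.range.Normal ∨ Nonempty (Γ ≃* alternatingGroup (Fin 7)) := by
  haveI := Fintype.ofFinite F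
  obtain ⟨f, -, hf⟩ := FiniteField.card F p
  have hqF : Fintype.card F = 4 := by rw [← Nat.card_eq_fintype_card, hq]
  obtain rfl : p = 2 := by
    have h1 : p ∣ 2 ^ 2 := by
      rw [show (2 : ℕ) ^ 2 = 4 from rfl, ← hq]; exact dvd_card_field
    exact (Nat.prime_dvd_prime_iff_eq Fact.out Nat.prime_two).1 ((Fact.out : p.Prime).dvd_of_dvd_pow h1)
  set L := Y.hom.range with hLdef
  have h60 : Nat.card L = 60 := by
    rw [← Nat.card_congr (MonoidHom.ofInjective Y.hom_injective).toEquiv,
      CfsgLib.ModBound.card_SL 4 hqF.symm]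
    rfl
  haveI := isSimpleGroup_sl_two (F := F) (by omega)
  haveI : IsSimpleGroup L := (MonoidHom.ofInjective Y.hom_injective).symm.isSimpleGroup
  -- the embedding in `A₈`
  let θ : Γ →* MulAut (Multiplicative (Fin 2 → F)) :=
    MonoidHom.mk' (fun γ => AddEquiv.toMultiplicative (DistribMulAction.toAddEquiv (Fin 2 → F) γ))
      fun a b => MulEquiv.ext fun v => by
        show Multiplicative.ofAdd ((a * b) • v.toAdd) = Multiplicative.ofAdd (a • b • v.toAdd)
        rw [mul_smul]
  have hθ : Function.Injective θ := fun a b e => Y.eq_of_smul fun v =>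
    congrArg Multiplicative.toAdd (MulEquiv.ext_iff.1 e (Multiplicative.ofAdd v))
  obtain ⟨ι, hι⟩ := CfsgLib.Invol.A8.exists_injective_mulAut (V := Multiplicative (Fin 2 → F))
    (fun v => Multiplicative.toAdd.injective (by
      show (2 : ℕ) • v.toAdd = 0
      funext i; simp [CharTwo.two_eq_zero]))
    (by rw [Nat.card_congr Multiplicative.toAdd, Nat.card_fun, Nat.card_fin, hq]; norm_num)
  set φ := ι.comp θ
  have hφ : Function.Injective φ := hι.comp hθ
  have hdiv : Nat.card Γ ∣ 20160 := by
    have h8 : Nat.card (alternatingGroup (Fin 8)) = 20160 := by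
      rw [nat_card_alternatingGroup, Nat.card_fin]; rfl
    exact h8 ▸ Subgroup.card_dvd_of_injective φ hφ
  -- Sylow 2-subgroups
  obtain ⟨T, hT, hTN, hUT, hTi⟩ := Y.exists_sylow
  have h16 : ¬ 16 ∣ Nat.card Γ := by
    intro h
    have hTc : Nat.card T ≤ 8 := by
      let r : T →* RingAut F := Y.twist.comp (Subgroup.inclusion hTN)
      have h1 := r.ker.card_mul_index
      have h2 : Nat.card r.ker ≤ 4 := by
        refine (Nat.card_le_card_of_injective
          (fun t : r.ker => (⟨(t : T), Y.mem_root_of_twist hT hUT (t : T).2 (hTN (t : T).2)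
            (MonoidHom.mem_ker.1 t.2)⟩ : Y.root)) fun t s e => ?_).trans_eq (by rw [Y.card_root, hq])
        exact Subtype.ext (Subtype.ext (congrArg Subtype.val e :))
      have h3 : r.ker.index ≤ 2 := by
        rw [Subgroup.index_ker]
        haveI : Finite (RingAut F) := Finite.of_injective (fun e : RingAut F => (e : F → F))
          fun a b h => RingEquiv.ext (congrFun h)
        refine (Subgroup.card_le_card_group _).trans ?_
        have hF2 : Fintype.card F = 2 ^ 2 := hqF
        obtain ⟨e⟩ := CfsgLib.AutPSL.exists_ringAut_equiv (F := F) hF2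
        rw [Nat.card_congr e.toEquiv]
        simp
      nlinarith
    have hdvd : 16 ∣ Nat.card T := by
      rw [← T.card_mul_index] at h
      refine Nat.Coprime.dvd_of_dvd_mul_right ?_ h
      exact (Nat.Coprime.pow_left 4 (Nat.prime_two.coprime_iff_not_dvd.2 hTi) : Nat.Coprime (2 ^ 4) _)
    have := Nat.le_of_dvd Nat.card_pos hdvd
    omega
  by_cases h7 : 7 ∣ L.index
  · exact Or.inr (alt_seven_of_embedding h60 h16 h7 φ hφ)
  left
  have hmul := L.card_mul_index
  rw [h60] at hmul
  have hk6 : L.index ∣ 48 := by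
    have h1 : L.index ∣ 336 := by
      rw [← hmul] at hdiv
      exact Nat.dvd_of_mul_dvd_mul_left (by norm_num) (show 60 * L.index ∣ 60 * 336 from hdiv)
    exact (Nat.Coprime.dvd_of_dvd_mul_left
      ((Nat.coprime_comm.1 ((by norm_num : Nat.Prime 7).coprime_iff_not_dvd.2 h7)))
      (show L.index ∣ 7 * 48 from h1))
  have hk4 : ¬ 4 ∣ L.index := fun h => h16 (by rw [← hmul]; omega)
  have hkle : L.index ∈ Nat.divisors 48 := Nat.mem_divisors.2 ⟨hk6, by norm_num⟩
  rw [show Nat.divisors 48 = {1, 2, 3, 4, 6, 8, 12, 16, 24, 48} by decide] at hkle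
  simp only [Finset.mem_insert, Finset.mem_singleton] at hkle
  have hN : (Subgroup.normalizer (L : Set Γ)).index ∣ L.index :=
    Subgroup.index_dvd_of_le Subgroup.le_normalizer
  have hodd : ¬ 2 ∣ (Subgroup.normalizer (L : Set Γ)).index := Y.index
  refine normal_of_small_index h60 (by omega) ?_
  have h3 : (Subgroup.normalizer (L : Set Γ)).index ∣ 3 := by
    refine (Nat.Coprime.pow_right 4 (Nat.coprime_comm.1 (Nat.prime_two.coprime_iff_not_dvd.2 hodd)) :
      Nat.Coprime _ (2 ^ 4)).dvd_of_dvd_mul_left (hN.trans (hk6.trans ?_))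
    norm_num
  exact (Nat.le_of_dvd (by norm_num) h3).trans (by norm_num)

end CfsgLib.NatEmb
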