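import Cfsg.Agent.Lib.LocalStructure.NatSLTwoEmbedded.Four

/-!
# A natural `SL₂(F)` with Sylow-embedded normalizer is normal or lies in `A₇`

Outside the field of four elements two translates of the line `x₁ = 0` agree or meet trivially; hence every
conjugate of a root group lies in `SL₂(F)`.
-/

set_option autoImplicit false
set_option linter.style.haveILetI false
set_option linter.unusedSectionVars false

namespace CfsgLib.NatEmb

open Subgroup Matrix
open CfsgLib.PushUpTwo (up lo upGroup up_mem up_val lo_val eq_up_of_mem card_upGroup)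

universe u v

variable {p : ℕ} {F : Type u} [Field F] [Finite F] [CharP F p] [Fact p.Prime] {Γ : Type v} [Group Γ]
  [Finite Γ] [DistribMulAction Γ (Fin 2 → F)]

theorem iff_of_imp_smul (γ : Γ) {P : (Fin 2 → F) → Prop} (h : ∀ v, P v → P (γ • v)) (v : Fin 2 → F) :
    P (γ • v) ↔ P v := by
  refine ⟨fun hv => ?_, h v⟩
  have : Function.Bijective (fun a : {v // P v} => (⟨γ • a.1, h a.1 a.2⟩ : {v // P v})) :=
    Finite.injective_iff_bijective.1 fun a b e =>
      Subtype.ext (MulAction.injective γ (congrArg Subtype.val e))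
  obtain ⟨a, ha⟩ := this.surjective ⟨γ • v, hv⟩
  rw [← MulAction.injective γ (congrArg Subtype.val ha)]
  exact a.2

namespace Sys

variable (Y : Sys p F Γ)

/-- The vectors of the line that lie in its translate by `g`. -/
def meet (_Z : Sys p F Γ) (g : Γ) : AddSubgroup (Fin 2 → F) where
  carrier := {v | v 1 = 0 ∧ (g⁻¹ • v) 1 = 0}
  zero_mem' := ⟨rfl, by rw [smul_zero]; rfl⟩
  add_mem' := fun {a b} ha hb => ⟨by simp [ha.1, hb.1], by simp [smul_add, ha.2, hb.2]⟩
  neg_mem' := fun {a} ha => ⟨by simp [ha.1], by simp [smul_neg, ha.2]⟩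

/-- The translate by `g` differs from the line and meets it nontrivially. -/
def Bad (_Z : Sys p F Γ) (g : Γ) : Prop :=
  (∃ v : Fin 2 → F, v ∈ _Z.meet g ∧ v ≠ 0) ∧ ∃ v : Fin 2 → F, (g⁻¹ • v) 1 = 0 ∧ v 1 ≠ 0

/-- For a bad `g` with maximal meet, each vector of the meet and each vector of the translate off the
line give an element of the root group stabilizing the translate. -/
theorem up_mem_stab {g : Γ} (hmax : ∀ k, Y.Bad k → Nat.card (Y.meet k) ≤ Nat.card (Y.meet g))
    {d x : Fin 2 → F} (hd : d ∈ Y.meet g) (hd0 : d ≠ 0) (hx : (g⁻¹ • x) 1 = 0) (hx1 : x 1 ≠ 0) :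
    Y.hom (up (d 0 / x 1)) ∈ Y.stab g := by
  set u := Y.hom (up (d 0 / x 1)) with hu
  have huR : u ∈ Y.root := Y.mem_root.2 ⟨_, hu⟩
  have hux : u • x = x + d := by
    rw [hu, Y.up_smul]
    ext i; fin_cases i
    · simp [div_mul_cancel₀ _ hx1]
    · simp [hd.1]
  set k := g⁻¹ * u * g with hk
  have hkinv : ∀ v : Fin 2 → F, k⁻¹ • v = g⁻¹ • (u⁻¹ • (g • v)) := fun v => by
    rw [hk, ← mul_smul, ← mul_smul]; congr 1; group
  have hz : ∀ z ∈ Y.meet g, g⁻¹ • z ∈ Y.meet k := fun z hz => by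
    refine ⟨hz.2, ?_⟩
    rw [hkinv, smul_inv_smul, Y.root_fix (inv_mem huR) hz.1]
    exact hz.2
  have hxd : g⁻¹ • (x + d) ∈ Y.meet k := by
    refine ⟨by rw [smul_add, Pi.add_apply, hx, hd.2, add_zero], ?_⟩
    rw [hkinv, smul_inv_smul, ← hux, inv_smul_smul]
    exact hx
  have hlt : Nat.card (Y.meet g) < Nat.card (Y.meet k) := by
    haveI := Fintype.ofFinite (Y.meet g)
    haveI := Fintype.ofFinite (Y.meet k)
    rw [Nat.card_eq_fintype_card, Nat.card_eq_fintype_card]
    refine Fintype.card_lt_of_injective_of_notMem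
      (fun z : Y.meet g => (⟨g⁻¹ • (z : Fin 2 → F), hz z z.2⟩ : Y.meet k))
      (fun a b e => Subtype.ext (MulAction.injective _ (congrArg Subtype.val e)))
      (b := ⟨_, hxd⟩) ?_
    rintro ⟨z, e⟩
    have h1 : (z : Fin 2 → F) = x + d := MulAction.injective _ (congrArg Subtype.val e)
    have h2 := z.2.1
    rw [h1, Pi.add_apply, hd.1, add_zero] at h2
    exact hx1 h2
  have hgd : g⁻¹ • d ≠ 0 := fun e => hd0 (by rw [← smul_inv_smul g d, e, smul_zero])
  have hkfix : ∀ v : Fin 2 → F, (k⁻¹ • v) 1 = 0 → v 1 = 0 := by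
    intro v hv
    by_contra hne
    exact absurd (hmax k ⟨⟨_, hz d hd, hgd⟩, v, hv, hne⟩) (not_le.2 hlt)
  refine ⟨huR, fun v => ?_⟩
  refine (iff_of_imp_smul (P := fun w : Fin 2 → F => (g⁻¹ • w) 1 = 0) u⁻¹ (fun w hw => ?_) (u • v)).symm.trans ?_
  · have h := (iff_of_imp_smul (P := fun w : Fin 2 → F => w 1 = 0) k (fun w hw => hkfix _ (by
      rw [inv_smul_smul]; exact hw)) (k⁻¹ • (g⁻¹ • w))).1 (by rw [smul_inv_smul]; exact hw)
    rw [hkinv, smul_inv_smul] at h
    exact h
  · rw [inv_smul_smul]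

/-- Outside the field of four elements a translate of the line equals it or meets it trivially. -/
theorem not_bad (hq : Nat.card F ≠ 4) (g₀ : Γ) : ¬ Y.Bad g₀ := by
  intro h0
  obtain ⟨g, hg, hmax⟩ : ∃ g, Y.Bad g ∧ ∀ k, Y.Bad k → Nat.card (Y.meet k) ≤ Nat.card (Y.meet g) := by
    classical
    haveI := Fintype.ofFinite Γ
    obtain ⟨g, hg, hm⟩ := Finset.exists_max_image (Finset.univ.filter fun k => Y.Bad k)
      (fun k => Nat.card (Y.meet k)) ⟨g₀, by simp [h0]⟩
    exact ⟨g, (Finset.mem_filter.1 hg).2, fun k hk => hm k (by simp [hk])⟩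
  obtain ⟨⟨d, hd, hd0⟩, x, hx, hx1⟩ := hg
  have hd0' : ∀ {e : Fin 2 → F}, e ∈ Y.meet g → e ≠ 0 → e 0 ≠ 0 := fun he h e0 => h (by
    ext i; fin_cases i
    · exact e0
    · exact he.1)
  have hne : ∀ {e y : Fin 2 → F}, e ∈ Y.meet g → e ≠ 0 → y 1 ≠ 0 →
      Y.hom (up (e 0 / y 1)) ≠ 1 := fun he h hy e1 => by
    have h1 := congrArg (fun M => M.1 0 1) (Y.hom_injective (e1.trans Y.hom.map_one.symm))
    simp [up_val, hy, hd0' he h] at h1
  -- the prime field
  by_cases hp : Nat.card F = p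
  · haveI : Finite (Fin 2 → F) := inferInstance
    let π : Y.meet g →+ F := (Pi.evalAddMonoidHom (fun _ : Fin 2 => F) 0).comp (Y.meet g).subtype
    have hπ : Function.Injective π := fun a b e => Subtype.ext (by
      ext i; fin_cases i
      · exact e
      · exact a.2.1.trans b.2.1.symm)
    have hcard : Nat.card (Y.meet g) = p := by
      have h1 : Nat.card (Y.meet g) ∣ p := (AddSubgroup.card_dvd_of_injective π hπ).trans (dvd_of_eq hp)
      refine ((Nat.dvd_prime Fact.out).1 h1).resolve_left fun h1 => hd0 ?_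
      haveI := (Nat.card_eq_one_iff_unique.1 h1).1
      exact congrArg Subtype.val (Subsingleton.elim (⟨d, hd⟩ : Y.meet g) 0)
    have hsur : Function.Surjective (fun a : Y.meet g => (⟨g⁻¹ • (a : Fin 2 → F), a.2.2⟩ :
        {v : Fin 2 → F // v 1 = 0})) := by
      haveI := Fintype.ofFinite (Y.meet g)
      haveI := Fintype.ofFinite {v : Fin 2 → F // v 1 = 0}
      refine ((Fintype.bijective_iff_injective_and_card _).2 ⟨fun a b e => Subtype.ext
        (MulAction.injective g⁻¹ (congrArg Subtype.val e)), ?_⟩).surjective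
      rw [← Nat.card_eq_fintype_card, ← Nat.card_eq_fintype_card, hcard, ← hp]
      exact Nat.card_congr ⟨fun c => ⟨![c, 0], rfl⟩, fun v => v.1 0, fun c => rfl, fun v =>
        Subtype.ext (by ext i; fin_cases i <;> [rfl; exact v.2.symm])⟩
    obtain ⟨a, ha⟩ := hsur ⟨_, hx⟩
    have e : (a : Fin 2 → F) = x := MulAction.injective g⁻¹ (congrArg Subtype.val ha)
    exact hx1 (e ▸ a.2.1)
  obtain ⟨hodd, hle⟩ := Y.stab_small hp (g := g) ⟨x, hx, hx1⟩
  have hmem : ∀ {e y : Fin 2 → F}, e ∈ Y.meet g → e ≠ 0 → (g⁻¹ • y) 1 = 0 → y 1 ≠ 0 →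
      Y.hom (up (e 0 / y 1)) ∈ Y.stab g := fun he h hy hy1 => Y.up_mem_stab hmax he h hy hy1
  have hp2 : p = 2 := by
    by_contra hp2
    exact hne hd hd0 hx1 (Subgroup.mem_bot.1 (hodd hp2 ▸ hmem hd hd0 hx hx1))
  subst hp2
  have huniq : ∀ {e y : Fin 2 → F}, e ∈ Y.meet g → e ≠ 0 → (g⁻¹ • y) 1 = 0 → y 1 ≠ 0 →
      e 0 / y 1 = d 0 / x 1 := by
    intro e y he h hy hy1
    by_contra hne2
    have h3 : 3 ≤ Nat.card (Y.stab g) := by
      classical
      haveI := Fintype.ofFinite (Y.stab g)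
      rw [Nat.card_eq_fintype_card]
      refine le_trans (le_of_eq ?_) (Finset.card_le_univ
        ({1, ⟨_, hmem he h hy hy1⟩, ⟨_, hmem hd hd0 hx hx1⟩} : Finset (Y.stab g)))
      rw [Finset.card_insert_of_notMem, Finset.card_pair]
      · intro e1
        have h1 := congrArg (fun M => M.1 0 1) (Y.hom_injective (congrArg Subtype.val e1))
        simp [up_val] at h1
        exact hne2 h1
      · intro hm
        simp only [Finset.mem_insert, Finset.mem_singleton] at hm
        rcases hm with hm | hm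
        · exact hne he h hy1 (congrArg Subtype.val hm.symm)
        · exact hne hd hd0 hx1 (congrArg Subtype.val hm.symm)
    omega
  have hD : ∀ {e : Fin 2 → F}, e ∈ Y.meet g → e ≠ 0 → e = d := by
    intro e he h
    have h1 := (div_left_inj' hx1).1 (huniq he h hx hx1)
    ext i; fin_cases i
    · exact h1
    · exact he.1.trans hd.1.symm
  have hX : ∀ {y : Fin 2 → F}, (g⁻¹ • y) 1 = 0 → y 1 ≠ 0 → y 1 = x 1 := by
    intro y hy hy1
    have h1 := huniq hd hd0 hy hy1
    rw [div_eq_div_iff hy1 hx1] at h1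
    exact (mul_left_cancel₀ (hd0' hd hd0) h1).symm
  -- the translate has at most four elements
  have hbound : Nat.card F ≤ 4 := by
    classical
    haveI := Fintype.ofFinite F
    rw [Nat.card_eq_fintype_card]
    refine le_trans (le_of_eq_of_le ?_ (Finset.card_le_card (s := Finset.univ.filter fun v : Fin 2 → F => (g⁻¹ • v) 1 = 0)
      (t := {0, d, x, x + d}) ?_)) Finset.card_le_four
    · symm
      rw [← Fintype.card_subtype]
      refine Fintype.card_congr ⟨fun v => (g⁻¹ • v.1) 0, fun c => ⟨g • ![c, 0], by rw [inv_smul_smul]; rfl⟩,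
        fun v => Subtype.ext ?_, fun c => by simp⟩
      rw [smul_eq_iff_eq_inv_smul]
      ext i; fin_cases i
      · rfl
      · exact v.2.symm
    · intro v hv
      have hv' : (g⁻¹ • v) 1 = 0 := (Finset.mem_filter.1 hv).2
      simp only [Finset.mem_insert, Finset.mem_singleton]
      by_cases hv1 : v 1 = 0
      · by_cases hv0 : v = 0
        · exact Or.inl hv0
        · exact Or.inr (Or.inl (hD ⟨hv1, hv'⟩ hv0))
      · have hm : v - x ∈ Y.meet g := ⟨by rw [Pi.sub_apply, hX hv' hv1, sub_self],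
          by rw [smul_sub, Pi.sub_apply, hv', hx, sub_self]⟩
        by_cases hv0 : v - x = 0
        · exact Or.inr (Or.inr (Or.inl (sub_eq_zero.1 hv0)))
        · exact Or.inr (Or.inr (Or.inr (by rw [← hD hm hv0]; abel)))
  haveI := Fintype.ofFinite F
  obtain ⟨f, -, hf⟩ := FiniteField.card F 2
  rw [Nat.card_eq_fintype_card, hf] at hbound hq hp
  have hf3 : (f : ℕ) < 3 := by
    by_contra h
    have := Nat.pow_le_pow_right (show 0 < 2 by norm_num) (not_lt.1 h)
    omega
  interval_cases h : (f : ℕ)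
  · simp at h
  · exact hp rfl
  · exact hq rfl

/-- The natural `SL₂(F)` is normal, except over the field of four elements. -/
theorem normal_of_ne_four (hq : Nat.card F ≠ 4) : Y.hom.range.Normal := by
  have hroot : ∀ (g : Γ) (a : F), g * Y.hom (up a) * g⁻¹ ∈ Y.hom.range := by
    intro g a
    set w := g • (![1, 0] : Fin 2 → F) with hw
    obtain ⟨h, hh⟩ : ∃ h : Matrix.SpecialLinearGroup (Fin 2) F, h.1 *ᵥ ![1, 0] = w := by
      by_cases h0 : w 0 = 0
      · have h1 : w 1 ≠ 0 := fun h1 => by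
          have : w = 0 := by ext i; fin_cases i <;> assumption
          have e := congrArg (fun v => g⁻¹ • v) this
          simp [hw] at e
        refine ⟨⟨!![0, -(w 1)⁻¹; w 1, 0], by simp [Matrix.det_fin_two, h1]⟩, ?_⟩
        ext i; fin_cases i <;> simp [Matrix.mulVec, dotProduct, Fin.sum_univ_two, h0]
      · refine ⟨⟨!![w 0, 0; w 1, (w 0)⁻¹], by simp [Matrix.det_fin_two, h0]⟩, ?_⟩
        ext i; fin_cases i <;> simp [Matrix.mulVec, dotProduct, Fin.sum_univ_two]
    set t := (Y.hom h)⁻¹ * g with ht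
    have ht1 : t • (![1, 0] : Fin 2 → F) = ![1, 0] := by
      rw [ht, mul_smul, ← hw, inv_smul_eq_iff, Y.spec, hh]
    have hline : ∀ v : Fin 2 → F, (t • v) 1 = 0 ↔ v 1 = 0 := by
      refine iff_of_imp_smul (P := fun v : Fin 2 → F => v 1 = 0) t fun v hv => ?_
      by_contra hne
      refine Y.not_bad hq t ⟨⟨![1, 0], ⟨rfl, ?_⟩, fun e => by simpa using congrFun e 0⟩, t • v, ?_, hne⟩
      · rw [inv_smul_eq_iff.2 ht1.symm]; rfl
      · rw [inv_smul_smul]; exact hv
    obtain ⟨b, hb⟩ := Y.mem_root.1 ((Subgroup.mem_normalizer_iff.1 (Y.mem_normalizer_root hline) _).1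
      (Y.mem_root.2 ⟨a, rfl⟩))
    have e : g * Y.hom (up a) * g⁻¹ = Y.hom h * Y.hom (up b) * (Y.hom h)⁻¹ := by
      rw [← hb, ht]; group
    rw [e]
    exact mul_mem (mul_mem ⟨h, rfl⟩ ⟨_, rfl⟩) (inv_mem ⟨h, rfl⟩)
  refine ⟨fun n hn g => ?_⟩
  obtain ⟨s, rfl⟩ := hn
  let H : Subgroup (Matrix.SpecialLinearGroup (Fin 2) F) :=
    Y.hom.range.comap ((MulAut.conj g).toMonoidHom.comp Y.hom)
  have hH : ∀ x, x ∈ H ↔ g * Y.hom x * g⁻¹ ∈ Y.hom.range := fun x => Iff.rfl
  have htop : H = ⊤ := by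
    refine CfsgLib.PushUpTwo.eq_top_of_upGroup_le (x := lo 1) (fun y hy => (hH y).2 ?_) ((hH _).2 ?_)
      CfsgLib.PushUpTwo.lo_not_normalizes
    · rw [eq_up_of_mem hy]; exact hroot g _
    · let w₀ : Matrix.SpecialLinearGroup (Fin 2) F := ⟨!![0, -1; 1, 0], by simp [Matrix.det_fin_two]⟩
      have e : lo (1 : F) = w₀ * up (-1) * w₀⁻¹ := by
        have hw0 : (w₀ : Matrix (Fin 2) (Fin 2) F) = !![0, -1; 1, 0] := rfl
        rw [eq_mul_inv_iff_mul_eq]
        refine CfsgLib.PushUpTwo.slExt ?_ ?_ ?_ ?_ <;>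
          simp [Matrix.SpecialLinearGroup.coe_mul, hw0, up_val, lo_val, Matrix.mul_apply, Fin.sum_univ_two]
      have := hroot (g * Y.hom w₀) (-1)
      rw [e, map_mul, map_mul, map_inv]
      simpa [mul_assoc] using this
  exact (hH s).1 (htop ▸ Subgroup.mem_top s)

/-- The main result. -/
theorem normal_or_alt_seven : Y.hom.range.Normal ∨
    (Nat.card F = 4 ∧ Nonempty (Γ ≃* alternatingGroup (Fin 7))) := by
  by_cases hq : Nat.card F = 4
  · exact (Y.four hq).imp_right fun h => ⟨hq, h⟩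
  · exact Or.inl (Y.normal_of_ne_four hq)

end Sys

end CfsgLib.NatEmb
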